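import Mathlib

/-!
# S3489 package A3 (helper3): orders of elements of `V ⋊ K`
Statements verbatim from `notes/S3489_skeleton.lean.txt`.
-/

set_option autoImplicit false

namespace Cfsg.Agent.Lib.A10

namespace A3

/-- the semidirect product datum attached to a distributive action -/
def phi (K V : Type*) [Group K] [AddCommGroup V] [DistribMulAction K V] :
    K →* MulAut (Multiplicative V) :=
  (MulAutMultiplicative V).symm.toMonoidHom.comp (DistribMulAction.toAddAut K V)

theorem phi_apply {K V : Type*} [Group K] [AddCommGroup V] [DistribMulAction K V] (k : K) (v : V) :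
    phi K V k (Multiplicative.ofAdd v) = Multiplicative.ofAdd (k • v) := by
  rfl

theorem pow_mk {K V : Type*} [Group K] [AddCommGroup V] [DistribMulAction K V] (v : V) (k : K)
    (n : ℕ) :
    (⟨Multiplicative.ofAdd v, k⟩ : Multiplicative V ⋊[phi K V] K) ^ n =
      ⟨Multiplicative.ofAdd (∑ i ∈ Finset.range n, (k ^ i) • v), k ^ n⟩ := by
  induction n with
  | zero =>
    ext <;> simp
  | succ n ih =>
    rw [pow_succ, ih]
    ext
    · simp only [SemidirectProduct.mul_left, Finset.sum_range_succ, phi_apply, ofAdd_add]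
    · simp only [SemidirectProduct.mul_right, pow_succ]

theorem inl_pow_aux {K V : Type*} [Group K] [AddCommGroup V] [DistribMulAction K V]
    (s : V) (j : ℕ) :
    (⟨Multiplicative.ofAdd s, 1⟩ : Multiplicative V ⋊[phi K V] K) ^ j =
      ⟨Multiplicative.ofAdd (j • s), 1⟩ := by
  have h := pow_mk (K := K) s (1 : K) j
  rw [h]
  ext
  · simp
  · simp

theorem orderOf_mk {K V : Type*} [Group K] [AddCommGroup V] [DistribMulAction K V] (v : V) (k : K)
    (hk : IsOfFinOrder k) :
    orderOf (⟨Multiplicative.ofAdd v, k⟩ : Multiplicative V ⋊[phi K V] K) =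
      orderOf k * addOrderOf (∑ i ∈ Finset.range (orderOf k), (k ^ i) • v) := by
  set m := orderOf k with hm
  set s : V := ∑ i ∈ Finset.range m, (k ^ i) • v with hs
  set x : Multiplicative V ⋊[phi K V] K := ⟨Multiplicative.ofAdd v, k⟩ with hx
  have hmpos : 0 < m := hk.orderOf_pos
  have hxm : x ^ m = ⟨Multiplicative.ofAdd s, 1⟩ := by
    rw [hx, pow_mk, hm, pow_orderOf_eq_one]
  have hmul : ∀ j : ℕ, x ^ (m * j) = ⟨Multiplicative.ofAdd (j • s), 1⟩ := by
    intro j
    rw [pow_mul, hxm, inl_pow_aux]
  have key : ∀ n : ℕ, x ^ n = 1 ↔ m * addOrderOf s ∣ n := by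
    intro n
    constructor
    · intro h
      have hr : k ^ n = 1 := by
        have := congrArg SemidirectProduct.right h
        rw [hx, pow_mk] at this
        simpa using this
      obtain ⟨j, rfl⟩ : m ∣ n := orderOf_dvd_of_pow_eq_one hr
      rw [hmul j] at h
      have hl : j • s = 0 := by
        have h2 : Multiplicative.ofAdd (j • s) = (1 : Multiplicative V) :=
          congrArg SemidirectProduct.left h
        exact Multiplicative.ofAdd.injective h2
      exact Nat.mul_dvd_mul_left m (addOrderOf_dvd_of_nsmul_eq_zero hl)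
    · rintro ⟨c, rfl⟩
      rw [mul_assoc, hmul, mul_nsmul, addOrderOf_nsmul_eq_zero, smul_zero]
      rfl
  exact Nat.dvd_antisymm (orderOf_dvd_of_pow_eq_one ((key _).2 dvd_rfl))
    ((key _).1 (pow_orderOf_eq_one x))

end A3

end Cfsg.Agent.Lib.A10
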